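import Groth.Agent.Lib.Ample.Criterion
import Mathlib.AlgebraicGeometry.QuasiAffine
import Mathlib.AlgebraicGeometry.Morphisms.UniversallyClosed
import Mathlib.AlgebraicGeometry.Morphisms.ClosedImmersion

/-!
# Loci of sections of ample modules are affine on universally closed schemes over affine bases
-/

set_option autoImplicit false
set_option backward.isDefEq.respectTransparency false

universe u

open CategoryTheory CategoryTheory.Limits AlgebraicGeometry TopologicalSpace Opposite
open GrothLib.Ample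

noncomputable section

namespace GrothLib.AffLocus9

variable {X S : Scheme.{u}} (c : Cocycle X)

/-- The inverse ratio near a point. -/
theorem exists_inv_ratio {m : ℕ} (s b : c.sect m ⊤) (f : Γ(X, c.locus s))
    (hf : c.sectRes le_top b = f • c.sectRes (le_top : c.locus s ≤ ⊤) s) {x : X} (hx : x ∈ c.locus b) :
    ∃ (N : X.Opens) (t : Γ(X, N)), x ∈ N ∧ (x ∈ X.basicOpen t → x ∈ c.locus s) ∧
      ∀ (V : X.Opens) (hN : V ≤ N) (hs : V ≤ c.locus s), res hN t * res hs f = 1 := by
  obtain ⟨i, hi⟩ := c.exists_mem x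
  let N := X.basicOpen (b.1 i)
  have hN : N ≤ ⊤ ⊓ c.D i := X.basicOpen_le _
  have hu : IsUnit (res hN (b.1 i)) := RingedSpace.isUnit_res_basicOpen X.toRingedSpace (b.1 i)
  let t : Γ(X, N) := res hN (s.1 i) * ↑hu.unit⁻¹
  have hxN : x ∈ N := (c.mem_locus_iff b hi).mp hx
  refine ⟨N, t, hxN, fun ht => ?_, fun V hVN hVs => ?_⟩
  · rw [show X.basicOpen t = _ from Scheme.basicOpen_mul _ _ _] at ht
    have h1 := ht.1
    rw [show X.basicOpen (res hN (s.1 i)) = _ from Scheme.basicOpen_res _ _ _] at h1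
    exact (c.mem_locus_iff s hi).mpr h1.2
  · have e := congrArg (fun z : c.sect m (c.locus s) => z.1 i) hf
    simp only [Cocycle.smul_apply, Cocycle.sectRes_apply] at e
    have e' := congrArg (res (le_inf hVs (hVN.trans (hN.trans inf_le_right)) : V ≤ c.locus s ⊓ c.D i)) e
    simp only [map_mul, res_res] at e'
    have hunit : res hVN (res hN (b.1 i)) * res hVN (↑hu.unit⁻¹ : Γ(X, N)) = 1 := by
      rw [← map_mul, hu.mul_val_inv, map_one]
    rw [res_res] at hunit
    simp only [t, map_mul, res_res]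
    rw [← hunit, e']
    ring

/-- The locus of a section of an ample module is affine. -/
theorem isAffineOpen_locus [CompactSpace X] [IsAffine S] (q : X ⟶ S) [UniversallyClosed q] (hc : c.IsAmp)
    (a : c.sect 1 ⊤) : IsAffineOpen (c.locus a) := by
  haveI := c.quasiSeparatedSpace_of_isAmp hc
  haveI := c.isAffineHom_locus_ι a
  let W : X.Opens := c.locus a
  haveI : CompactSpace (W : Scheme.{u}) := QuasiCompact.compactSpace_of_compactSpace W.ι
  have hpow : ∀ (n : ℕ) (b : c.sect (n + 1) ⊤), ∃ (s : c.sect (n + 1) ⊤) (_ : c.locus s = W) (f : Γ(X, c.locus s)),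
      c.sectRes le_top b = f • c.sectRes (le_top : c.locus s ≤ ⊤) s ∧ X.basicOpen f = c.locus s ⊓ c.locus b := by
    intro n b
    let s : c.sect (n + 1) ⊤ := c.sectCast (one_mul _) (c.sectPow a (n + 1))
    obtain ⟨f, hf⟩ := c.exists_ratio s b
    exact ⟨s, c.locus_sectPow a n.succ_pos, f, hf⟩
  haveI : (W : Scheme.{u}).IsQuasiAffine := by
    refine Scheme.IsQuasiAffine.of_forall_exists_mem_basicOpen _ fun p => ?_
    obtain ⟨n, b, hpb, -, hb⟩ := c.exists_affine_locus_le hc (O := ⊤) (p := W.ι p) trivial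
    obtain ⟨s, hs, f, -, hfb⟩ := hpow n b
    let f' : Γ((W : Scheme.{u}), ⊤) := (W.ι.appLE (c.locus s) ⊤ (fun z _ => hs.ge z.2)).hom f
    have e : (W : Scheme.{u}).basicOpen f' = W.ι ⁻¹ᵁ c.locus b := by
      simp only [f', Scheme.basicOpen_appLE, top_inf_eq, hfb]
      ext z
      exact ⟨fun h => h.2, fun h => ⟨hs.ge z.2, h⟩⟩
    refine ⟨f', ?_, by rw [e]; exact hpb⟩
    rw [e]
    exact hb.preimage W.ι
  let h := (W : Scheme.{u}).toSpecΓ
  let σ : Spec Γ((W : Scheme.{u}), ⊤) ⟶ S := Spec.map (W.ι ≫ q).appTop ≫ S.isoSpec.inv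
  have w : W.ι ≫ q = h ≫ σ := by
    show W.ι ≫ q = (W : Scheme.{u}).toSpecΓ ≫ Spec.map (W.ι ≫ q).appTop ≫ S.isoSpec.inv
    rw [← Scheme.toSpecΓ_naturality_assoc, Scheme.toSpecΓ_isoSpec_inv, Category.comp_id]
  let g := pullback.lift W.ι h w
  have hg1 : g ≫ pullback.fst q σ = W.ι := pullback.lift_fst _ _ _
  have hg2 : g ≫ pullback.snd q σ = h := pullback.lift_snd _ _ _
  have hclosed : IsClosed (Set.range g) := by
    refine isOpen_compl_iff.mp (isOpen_iff_forall_mem_open.mpr fun z hz => ?_)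
    by_cases hzW : pullback.fst q σ z ∈ W
    · let O := pullback.fst q σ ⁻¹ᵁ W
      have hrange : Set.range g ⊆ (O : Set _) := by
        rintro _ ⟨y, rfl⟩
        show pullback.fst q σ (g y) ∈ W
        rw [← Scheme.Hom.comp_apply, hg1]
        exact y.2
      let g' : (W : Scheme.{u}) ⟶ O := IsOpenImmersion.lift O.ι g (by rwa [Scheme.Opens.range_ι])
      have hg' : g' ≫ O.ι = g := IsOpenImmersion.lift_fac _ _ _
      have hid : g' ≫ (pullback.fst q σ ∣_ W) = 𝟙 _ := by
        rw [← cancel_mono W.ι, Category.assoc, morphismRestrict_ι, ← Category.assoc, hg', hg1, Category.id_comp]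
      haveI : IsSeparated σ := inferInstance
      haveI : IsClosedImmersion (g' ≫ (pullback.fst q σ ∣_ W)) := by rw [hid]; infer_instance
      haveI : IsClosedImmersion g' := IsClosedImmersion.of_comp g' (pullback.fst q σ ∣_ W)
      refine ⟨O.ι '' (Set.range g')ᶜ, ?_, O.ι.isOpenEmbedding.isOpenMap _
        g'.isClosedEmbedding.isClosed_range.isOpen_compl, ⟨⟨z, hzW⟩, ?_, rfl⟩⟩
      · rintro _ ⟨o, ho, rfl⟩ ⟨y, hy⟩
        refine ho ⟨y, O.ι.isOpenEmbedding.injective ?_⟩
        rw [← Scheme.Hom.comp_apply, hg']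
        exact hy
      · rintro ⟨y, hy⟩
        exact hz ⟨y, by rw [← hg', Scheme.Hom.comp_apply, hy]; rfl⟩
    · obtain ⟨n, b, hxb, -, -⟩ := c.exists_affine_locus_le hc (O := ⊤) (p := pullback.fst q σ z) trivial
      obtain ⟨s, hs, f, hf, -⟩ := hpow n b
      obtain ⟨N, t, hxN, htx, htf⟩ := exists_inv_ratio c s b f hf hxb
      let f' : Γ((W : Scheme.{u}), ⊤) := (W.ι.appLE (c.locus s) ⊤ (fun z _ => hs.ge z.2)).hom f
      let β : Γ(Spec Γ((W : Scheme.{u}), ⊤), ⊤) := (Scheme.ΓSpecIso _).inv.hom f'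
      let N₁ := pullback.fst q σ ⁻¹ᵁ N
      let t₁ : Γ(pullback q σ, N₁) := ((pullback.fst q σ).app N).hom t
      let β₁ : Γ(pullback q σ, N₁) := ((pullback.snd q σ).appLE ⊤ N₁ (fun _ _ => trivial)).hom β
      refine ⟨(pullback q σ).basicOpen (t₁ * β₁ - 1), ?_, Opens.isOpen _, ?_⟩
      · rintro y hy ⟨v, rfl⟩
        have hv : v ∈ (W : Scheme.{u}).basicOpen ((g.appLE N₁ (g ⁻¹ᵁ N₁) le_rfl).hom (t₁ * β₁ - 1)) := by
          rw [Scheme.basicOpen_appLE]
          exact ⟨(pullback q σ).basicOpen_le _ hy, hy⟩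
        have et : (g.appLE N₁ (g ⁻¹ᵁ N₁) le_rfl).hom t₁ = (W.ι.appLE N (g ⁻¹ᵁ N₁) (by
            intro w hw
            have : pullback.fst q σ (g w) ∈ N := hw
            rwa [← Scheme.Hom.comp_apply, hg1] at this)).hom t := by
          simp only [t₁, Scheme.Hom.app_eq_appLE]
          rw [← CommRingCat.comp_apply, Scheme.Hom.appLE_comp_appLE]
          simp only [hg1]
        have eb : (g.appLE N₁ (g ⁻¹ᵁ N₁) le_rfl).hom β₁ =
            (W.ι.appLE (c.locus s) (g ⁻¹ᵁ N₁) (fun z _ => hs.ge z.2)).hom f := by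
          simp only [β₁]
          rw [← CommRingCat.comp_apply, Scheme.Hom.appLE_comp_appLE]
          simp only [hg2]
          rw [Scheme.Hom.appLE, CommRingCat.comp_apply]
          have e0 : (h.app ⊤).hom β = f' := by
            show ((W : Scheme.{u}).toSpecΓ.appTop).hom ((Scheme.ΓSpecIso _).inv.hom f') = f'
            rw [Scheme.toSpecΓ_appTop, ← CommRingCat.comp_apply, Iso.inv_hom_id, CommRingCat.id_apply]
          rw [e0]
          simp only [f']
          change (W.ι.appLE (c.locus s) ⊤ _ ≫ (W : Scheme.{u}).presheaf.map _).hom f = _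
          rw [Scheme.Hom.appLE_map]
        have e1 : (g.appLE N₁ (g ⁻¹ᵁ N₁) le_rfl).hom (t₁ * β₁ - 1) = 0 := by
          rw [map_sub, map_mul, map_one, et, eb, sub_eq_zero]
          simp only [Scheme.Opens.ι_appLE]
          exact htf _ _ _
        rw [e1, Scheme.basicOpen_zero] at hv
        exact hv
      · have hzN : z ∈ N₁ := hxN
        rw [SetLike.mem_coe, Scheme.mem_basicOpen _ _ _ hzN, map_sub, map_mul, map_one]
        have hnu : ¬ IsUnit ((pullback q σ).presheaf.germ N₁ z hzN t₁ * (pullback q σ).presheaf.germ N₁ z hzN β₁) := by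
          intro hu
          have h1 : z ∈ (pullback q σ).basicOpen t₁ := (Scheme.mem_basicOpen _ _ _ hzN).mpr (isUnit_of_mul_isUnit_left hu)
          simp only [t₁, ← Scheme.preimage_basicOpen] at h1
          exact hzW (hs.le (htx h1))
        rw [← IsUnit.neg_iff, neg_sub]
        exact IsLocalRing.isUnit_one_sub_self_of_mem_nonunits _ hnu
  haveI : Surjective h := by
    refine ⟨Set.range_eq_univ.1 ?_⟩
    have hr : IsClosed (Set.range h) := by
      rw [← hg2, Scheme.Hom.comp_base, TopCat.coe_comp, Set.range_comp]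
      exact (pullback.snd q σ).isClosedMap _ hclosed
    rw [← hr.closure_eq]
    exact h.denseRange.closure_range
  haveI : IsIso h := (isIso_iff_isOpenImmersion_and_surjective h).2 ⟨inferInstance, inferInstance⟩
  exact IsAffine.of_isIso h

end GrothLib.AffLocus9
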